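import Mathlib
import Cfsg.Agent.H105.Rl.CycV
import Cfsg.Agent.H105.SzO6
import Cfsg.Agent.ClassicalGeometry.OrthDickson
import Cfsg.Agent.H721.SR.Base

/-!
# Non-real elements of `PΩ_{2m}`, `m` odd (helper105, SR-OTOR of S4971)
-/

set_option autoImplicit false

namespace Cfsg.Agent.H105.Rl

open Module Subgroup QuadraticMap Cfsg.Agent.H105.Dp Cfsg.Agent.LieClassical.OrthCore
  Cfsg.Agent.LieClassical.OrthTrans Cfsg.Agent.LieClassical.OrthFinite Cfsg.Agent.LieClassical.OrthSimple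
  Cfsg.Agent.H105.Sz

section fix

variable {ι : Type} [Fintype ι] [DecidableEq ι] {F : Type*} [Field F]

theorem even_fix (Q : QuadraticForm F (ι → F)) (hG : Good Q) (hc : Fintype.card ι ≠ 4)
    {h : (ι → F) ≃ₗ[F] (ι → F)} (hh : h ∈ E Q) :
    Even (finrank F (LinearMap.ker ((h : (ι → F) →ₗ[F] (ι → F)) - 1)) + Fintype.card ι) := by
  have hnd : (polarBilin Q).Nondegenerate :=
    ⟨hG.nondeg, fun y hy => hG.nondeg y fun x => by rw [polar_comm]; exact hy x⟩
  rw [← hG.commutator_eq_E] at hh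
  set g : Cfsg.Omega F ⇑Q := (omegaEquiv Q).symm ⟨h, hh⟩ with hg
  have hgh : ∀ v, (((g : Cfsg.isometryGroup F ⇑Q) : Matrix.GeneralLinearGroup ι F) : Matrix ι ι F).mulVec v = h v := by
    intro v
    rw [← omegaEquiv_apply Q g v, hg, MulEquiv.apply_symm_apply]
  have h1 := Cfsg.Agent.ClassicalGeometry.OrthDickson.dsign_eq_one_of_mem_commutator Q hnd (Or.inr hc)
    (g : Cfsg.isometryGroup F ⇑Q) g.2
  rw [Cfsg.Agent.ClassicalGeometry.OrthDickson.dsign_def] at h1
  have h2 : Cfsg.Agent.ClassicalGeometry.OrthCharTwo.fixSp (g : Cfsg.isometryGroup F ⇑Q) =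
      LinearMap.ker ((h : (ι → F) →ₗ[F] (ι → F)) - 1) := by
    ext v
    rw [LinearMap.mem_ker, LinearMap.sub_apply, sub_eq_zero]
    show (((g : Cfsg.isometryGroup F ⇑Q) : Matrix.GeneralLinearGroup ι F) : Matrix ι ι F).mulVec v = v ↔ h v = v
    rw [hgh]
  rw [h2] at h1
  rcases Nat.even_or_odd (finrank F (LinearMap.ker ((h : (ι → F) →ₗ[F] (ι → F)) - 1)) + Fintype.card ι) with h3 | h3
  · exact h3
  · rw [h3.neg_one_pow] at h1
    exact absurd h1 (by decide)

end fix

section form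

variable {F V : Type*} [Field F] [AddCommGroup V] [Module F V]

/-- the polar form of a quadratic space -/
def frmQ {Q : QuadraticForm F V} (h : Nondeg Q) : Frm F V where
  B := QuadraticMap.polarBilin Q
  nd x hx := h x hx
  refl x y hxy := by
    show QuadraticMap.polar Q y x = 0
    rw [QuadraticMap.polar_comm]
    exact hxy
  alt h2 x := by
    show QuadraticMap.polar Q x x = 0
    rw [QuadraticMap.polar_self, ← Nat.cast_smul_eq_nsmul F, Nat.cast_ofNat, h2, zero_smul]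

theorem scalar_sq {Q : QuadraticForm F V} (hQ : Nondeg Q) {z : V ≃ₗ[F] V} (hz : z ∈ O Q) (hs : Scalar z) :
    z ^ 2 = 1 := by
  obtain ⟨c, hc⟩ := hs
  apply LinearEquiv.ext
  intro v
  show z (z v) = v
  by_cases hv : v = 0
  · rw [hv, map_zero, map_zero]
  obtain ⟨y, hy⟩ := hQ.exists_polar_ne hv
  have h1 := polar_map hz v y
  rw [hc, hc, polar_smul_left, polar_smul_right, smul_eq_mul, smul_eq_mul, ← mul_assoc] at h1
  have h2 : c * c = 1 := mul_right_cancel₀ hy (h1.trans (one_mul _).symm)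
  rw [hc, hc, smul_smul, h2, one_smul]

end form

section main

variable {ι : Type} [Fintype ι] [DecidableEq ι] {F : Type*} [Field F] [Finite F]

theorem finite_E (Q : QuadraticForm F (ι → F)) : Finite (E Q) := by
  have : Finite ((ι → F) ≃ₗ[F] (ι → F)) :=
    Finite.of_injective (fun e : (ι → F) ≃ₗ[F] (ι → F) => (e : (ι → F) → (ι → F))) DFunLike.coe_injective
  infer_instance

theorem not_real {Q : QuadraticForm F (ι → F)} (hQ : Nondeg Q) {m : ℕ} (hm : 3 ≤ m) (hodd : Odd m)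
    (hι : Fintype.card ι = 2 * m) {r : ℕ} (hr : r.Prime) (hr2 : r ≠ 2) (hrF : (r : F) ≠ 0)
    (hord : orderOf ((Nat.card F : ℕ) : ZMod r) = 2 * m ∨ orderOf ((Nat.card F : ℕ) : ZMod r) = m)
    (hd : r ∣ Nat.card (E Q)) : Cfsg.Agent.H721.SR.NRel (E Q ⧸ Subgroup.center (E Q)) := by
  have hdim : finrank F (ι → F) = 2 * m := by rw [Module.finrank_fintype_fun_eq_card, hι]
  have hG : Good Q := good_of_finite hQ (by omega)
  have hfin := finite_E Q
  have hfr := Fact.mk hr
  obtain ⟨x, hx⟩ := exists_prime_orderOf_dvd_card' r hd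
  set g : (ι → F) →ₗ[F] (ι → F) := ((x : (ι → F) ≃ₗ[F] (ι → F)) : (ι → F) →ₗ[F] (ι → F)) with hg
  have hxr : x ^ r = 1 := by rw [← hx, pow_orderOf_eq_one]
  have hcoe : ∀ n : ℕ, (((x ^ n : E Q) : (ι → F) ≃ₗ[F] (ι → F)) : (ι → F) →ₗ[F] (ι → F)) = g ^ n := by
    intro n
    induction n with
    | zero => rfl
    | succ n ih => rw [pow_succ, pow_succ, ← ih]; rfl
  have hgr : g ^ r = 1 := by rw [← hcoe, hxr]; rfl
  have hiso : Iso (frmQ hQ) g := fun v w => polar_map (E_le_O (Q := Q) x.2) v w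
  have hee : ee F r = 2 * m := by
    unfold ee
    rcases hord with h | h
    · rw [h]
      exact Nat.lcm_eq_right (Dvd.intro _ rfl)
    · rw [h]
      exact Nat.Coprime.lcm_eq_mul ((Nat.coprime_two_left).2 hodd)
  have hrange : LinearMap.range (g - 1) = ⊤ := by
    have h1 := ee_dvd_range (frmQ hQ) hr hr2 hrF hiso hgr
    rw [hee] at h1
    have h2 : finrank F (LinearMap.range (g - 1)) ≠ 0 := by
      intro h0
      have h3 : LinearMap.range (g - 1) = ⊥ := Submodule.finrank_eq_zero.1 h0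
      rw [LinearMap.range_eq_bot, sub_eq_zero] at h3
      have h4 : x = 1 := by
        apply Subtype.ext
        exact LinearEquiv.toLinearMap_injective h3
      rw [h4, orderOf_one] at hx
      exact hr.one_lt.ne hx
    apply Submodule.eq_top_of_finrank_eq
    have h3 := Nat.le_of_dvd (Nat.pos_of_ne_zero h2) h1
    have h4 := Submodule.finrank_le (LinearMap.range (g - 1))
    omega
  have hfix : ∀ v, g v = v → v = 0 := by
    intro v hv
    have h1 := LinearMap.finrank_range_add_finrank_ker (g - 1)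
    rw [hrange, finrank_top] at h1
    have h2 : LinearMap.ker (g - 1) = ⊥ := Submodule.finrank_eq_zero.1 (by omega)
    have h3 : v ∈ LinearMap.ker (g - 1) := by
      rw [LinearMap.mem_ker, LinearMap.sub_apply, hv]
      exact sub_self v
    rwa [h2, Submodule.mem_bot] at h3
  obtain ⟨u, hu⟩ := exists_cyc hr hrF hgr hfix (frmQ hQ) (fun v w => polar_comm _ _ _) hiso hr2 (m := m)
    (by omega) hdim (hord.imp_right fun h => ⟨h, hodd⟩)
  refine ⟨QuotientGroup.mk' _ x, fun hc => ?_⟩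
  obtain ⟨h', hh'⟩ := isConj_iff.1 hc
  obtain ⟨h, rfl⟩ := QuotientGroup.mk'_surjective _ h'
  rw [← map_inv, ← map_inv, ← map_mul, ← map_mul] at hh'
  have hz : (h * x * h⁻¹)⁻¹ * x⁻¹ ∈ center (E Q) := QuotientGroup.eq.1 hh'
  set z := (h * x * h⁻¹)⁻¹ * x⁻¹ with hzdef
  have hz2 : z ^ 2 = 1 := Subtype.ext (scalar_sq hQ (E_le_O z.2) (SzO.center_scalar hG z hz))
  have hz3 : z ^ r = 1 := by
    have hcomm : ∀ y : E Q, y * z = z * y := fun y => mem_center_iff.1 hz y
    have h1 : (h * x * h⁻¹) * z = x⁻¹ := by rw [hzdef]; group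
    have h2 : ((h * x * h⁻¹) * z) ^ r = (h * x * h⁻¹) ^ r * z ^ r :=
      (show Commute (h * x * h⁻¹) z from hcomm _).mul_pow r
    rw [h1, inv_pow, hxr, inv_one, conj_pow, hxr, mul_one, mul_inv_cancel, one_mul] at h2
    exact h2.symm
  have hz1 : z = 1 := by
    have h1 : z ^ Nat.gcd 2 r = 1 := pow_gcd_eq_one.2 ⟨hz2, hz3⟩
    rwa [(Nat.coprime_primes Nat.prime_two hr).2 (Ne.symm hr2), pow_one] at h1
  have hinv : h * x * h⁻¹ = x⁻¹ := by
    have h1 : (h * x * h⁻¹) * z = x⁻¹ := by rw [hzdef]; group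
    rwa [hz1, mul_one] at h1
  have hinv' : (h : (ι → F) ≃ₗ[F] (ι → F)) * x * (h : (ι → F) ≃ₗ[F] (ι → F))⁻¹ =
      (x : (ι → F) ≃ₗ[F] (ι → F))⁻¹ := congrArg Subtype.val hinv
  have hsq := sq_one (B := polarBilin Q) (fun v w => polar_comm _ _ _) hQ
    (fun v w => polar_map (E_le_O (Q := Q) x.2) v w) (fun v w => polar_map (E_le_O (Q := Q) h.2) v w) hinv' hu
  have hfx := finrank_fix hinv' hsq (hr.odd_of_ne_two hr2)
    (show (x : (ι → F) ≃ₗ[F] (ι → F)) ^ r = 1 from congrArg Subtype.val hxr) hfix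
  have hev := even_fix Q hG (by omega) h.2
  rw [hdim] at hfx
  rw [hι] at hev
  obtain ⟨k, hk⟩ := hev
  obtain ⟨l, hl⟩ := hodd
  omega

end main

end Cfsg.Agent.H105.Rl
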