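import Mathlib
import Cfsg.Agent.H105.Dp.Lin
import Cfsg.Agent.H105.Dp.Lin2

/-!
# Isometries inverting a cyclic isometry (helper105, SR-OTOR of S4971)

`V` has a nondegenerate symmetric form, `x` is an isometry with a cyclic vector, `h` an isometry with
`h x h⁻¹ = x⁻¹`. Then `h² = 1`, and `dim Fix h = dim V / 2` if `x` has odd order and no fixed vectors.
-/

set_option autoImplicit false

namespace Cfsg.Agent.H105.Rl

open Module Polynomial Cfsg.Agent.H105.Dp

variable {F V : Type*} [Field F] [AddCommGroup V] [Module F V]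

/-- `u` is a cyclic vector -/
def Cyc (x : V →ₗ[F] V) (u : V) : Prop := ∀ v, ∃ f : F[X], aeval x f u = v

theorem inv_apply {x h : V ≃ₗ[F] V} (hinv : h * x * h⁻¹ = x⁻¹) (v : V) : x (h (x v)) = h v := by
  have h1 : x * (h * x) = h := by
    have : h * x = x⁻¹ * h := by rw [← hinv]; group
    rw [this]
    group
  exact LinearEquiv.congr_fun h1 v

theorem sq_one {B : V →ₗ[F] V →ₗ[F] F} (hs : ∀ v w, B v w = B w v) (hnd : ∀ v, (∀ w, B v w = 0) → v = 0)
    {x h : V ≃ₗ[F] V} (hx : ∀ v w, B (x v) (x w) = B v w) (hh : ∀ v w, B (h v) (h w) = B v w)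
    (hinv : h * x * h⁻¹ = x⁻¹) {u : V} (hu : Cyc (x : V →ₗ[F] V) u) : h * h = 1 := by
  have k1 : ∀ v w, B (x v) (h w) = B v (h (x w)) := by
    intro v w
    rw [← inv_apply hinv w, hx]
  have k1' : ∀ (n : ℕ) v w, B (((x : V →ₗ[F] V) ^ n) v) (h w) = B v (h (((x : V →ₗ[F] V) ^ n) w)) := by
    intro n
    induction n with
    | zero => intro v w; rfl
    | succ n ih =>
      intro v w
      have e1 : ((x : V →ₗ[F] V) ^ (n + 1)) v = x (((x : V →ₗ[F] V) ^ n) v) := by
        rw [pow_succ']; rfl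
      have e2 : ((x : V →ₗ[F] V) ^ (n + 1)) w = ((x : V →ₗ[F] V) ^ n) (x w) := by
        rw [pow_succ]; rfl
      rw [e1, e2, k1, ih]
  have k2 : ∀ (f : F[X]) v w, B (aeval (x : V →ₗ[F] V) f v) (h w) = B v (h (aeval (x : V →ₗ[F] V) f w)) := by
    intro f
    induction f using Polynomial.induction_on' with
    | add p q hp hq =>
      intro v w
      simp only [map_add, LinearMap.add_apply, hp, hq]
    | monomial n a =>
      intro v w
      rw [aeval_monomial, ← Algebra.smul_def, LinearMap.smul_apply, LinearMap.smul_apply, map_smul, map_smul,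
        map_smul, LinearMap.smul_apply, k1']
  have k3 : ∀ v w, B v (h w) = B w (h v) := by
    intro v w
    obtain ⟨f, rfl⟩ := hu v
    obtain ⟨g, rfl⟩ := hu w
    rw [k2, k2, ← Module.End.mul_apply, ← Module.End.mul_apply, ← map_mul, ← map_mul, mul_comm]
  have k4 : ∀ v, h (h v) = v := by
    intro v
    have : v - h (h v) = 0 := by
      apply hnd
      intro w
      obtain ⟨w, rfl⟩ := h.surjective w
      rw [map_sub, LinearMap.sub_apply, hh, k3, hs w, sub_self]
    rw [sub_eq_zero] at this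
    exact this.symm
  apply LinearEquiv.ext
  exact k4

section

variable [FiniteDimensional F V]

theorem finrank_eig_le {x h : V ≃ₗ[F] V} (hinv : h * x * h⁻¹ = x⁻¹) {k : ℕ} (hk : Odd k) (hxk : x ^ k = 1)
    (hfix : ∀ v, x v = v → v = 0) {c : F} (hc : c ≠ 0) :
    2 * finrank F (LinearMap.ker ((h : V →ₗ[F] V) - c • 1)) ≤ finrank F V := by
  set C := LinearMap.ker ((h : V →ₗ[F] V) - c • 1) with hC
  have hmem : ∀ v, v ∈ C ↔ h v = c • v := by
    intro v
    rw [hC, LinearMap.mem_ker, LinearMap.sub_apply, sub_eq_zero]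
    rfl
  have hdisj : C ⊓ C.map (x : V →ₗ[F] V) = ⊥ := by
    rw [eq_bot_iff]
    rintro v ⟨hv, w, hw, rfl⟩
    rw [SetLike.mem_coe, hmem] at hv hw
    have h1 : h (x w) = c • x w := hv
    have h2 := inv_apply hinv w
    rw [h1, hw, map_smul] at h2
    have h3 : x (x w) = w := smul_right_injective V hc h2
    have h4 : x w = w := by
      have h5 : ∀ j : ℕ, (x ^ (2 * j)) w = w := by
        intro j
        induction j with
        | zero => rfl
        | succ j ih =>
          have : x ^ (2 * (j + 1)) = x ^ (2 * j) * (x * x) := by rw [Nat.mul_succ, pow_add, pow_two]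
          rw [this]
          show (x ^ (2 * j)) (x (x w)) = w
          rw [h3, ih]
      obtain ⟨j, hj⟩ := hk
      have h6 : (x ^ k) w = w := by rw [hxk]; rfl
      rw [hj, pow_succ'] at h6
      have h7 : x ((x ^ (2 * j)) w) = w := h6
      rwa [h5] at h7
    show x w = 0
    rw [hfix w h4, map_zero]
  have h1 := Submodule.finrank_sup_add_finrank_inf_eq C (C.map (x : V →ₗ[F] V))
  rw [hdisj, finrank_bot, add_zero, LinearEquiv.finrank_map_eq x C] at h1
  have h2 := Submodule.finrank_le (C ⊔ C.map (x : V →ₗ[F] V))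
  omega

theorem finrank_fix {x h : V ≃ₗ[F] V} (hinv : h * x * h⁻¹ = x⁻¹) (hh : h * h = 1) {k : ℕ} (hk : Odd k)
    (hxk : x ^ k = 1) (hfix : ∀ v, x v = v → v = 0) :
    2 * finrank F (LinearMap.ker ((h : V →ₗ[F] V) - 1)) = finrank F V := by
  have h1 := finrank_eig_le hinv hk hxk hfix (c := 1) one_ne_zero
  have h2 := finrank_eig_le hinv hk hxk hfix (c := -1) (neg_ne_zero.2 one_ne_zero)
  rw [one_smul] at h1
  have h3 : LinearMap.range ((h : V →ₗ[F] V) - (-1 : F) • 1) ≤ LinearMap.ker ((h : V →ₗ[F] V) - 1) := by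
    rintro _ ⟨v, rfl⟩
    rw [LinearMap.mem_ker]
    have h4 : h (h v) = v := LinearEquiv.congr_fun hh v
    show h (h v - (-1 : F) • v) - (h v - (-1 : F) • v) = 0
    rw [map_sub, h4, map_smul]
    module
  have h4 := Submodule.finrank_mono h3
  have h5 := LinearMap.finrank_range_add_finrank_ker ((h : V →ₗ[F] V) - (-1 : F) • 1)
  omega

end

end Cfsg.Agent.H105.Rl
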