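import Mathlib
import Cfsg.Agent.H105.Rl.Grp
import Cfsg.Agent.LieClassical.OrthForms
import Cfsg.Agent.Lib.Zsigmondy
import Cfsg.Agent.S0293
import Cfsg.Agent.S0294

/-!
# `PΩ^±_{2m}(q)`, `m ≥ 5` odd, has non-real elements (helper105, SR-OTOR of S4971)
-/

set_option autoImplicit false

namespace Cfsg.Agent.H105.Rl

open Module Subgroup QuadraticMap Cfsg.Agent.LieClassical.OrthCore
  Cfsg.Agent.LieClassical.OrthTrans Cfsg.Agent.LieClassical.OrthFinite Cfsg.Agent.LieClassical.OrthSimple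
  Cfsg.Agent.LieClassical.OrthForms

theorem prime_facts {F : Type*} [Field F] [Finite F] {r e : ℕ} (hr : r.Prime)
    (h : orderOf ((Nat.card F : ℕ) : ZMod r) = e) (he : 5 ≤ e) : 5 ≤ r ∧ (r : F) ≠ 0 := by
  have hf := Fact.mk hr
  have h0 : ((Nat.card F : ℕ) : ZMod r) ≠ 0 := by
    intro h0
    have h1 : ((Nat.card F : ℕ) : ZMod r) ^ orderOf ((Nat.card F : ℕ) : ZMod r) = 1 := pow_orderOf_eq_one _
    rw [h, h0, zero_pow (by omega)] at h1
    exact zero_ne_one h1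
  constructor
  · have h1 := ZMod.orderOf_dvd_card_sub_one h0
    rw [h] at h1
    have h2 := Nat.le_of_dvd (Nat.sub_pos_of_lt hr.one_lt) h1
    omega
  · intro h1
    apply h0
    have hch : CharP F r := by
      obtain ⟨p, hp⟩ := CharP.exists F
      have h2 : p ∣ r := (CharP.cast_eq_zero_iff F p r).1 h1
      rcases (Nat.dvd_prime hr).1 h2 with h3 | h3
      · exact absurd h3 (CharP.char_ne_one F p)
      · rw [← h3]; exact hp
    rw [ZMod.natCast_eq_zero_iff, ← CharP.cast_eq_zero_iff F r]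
    have := Fintype.ofFinite F
    rw [Nat.card_eq_fintype_card]
    exact Nat.cast_card_eq_zero F

theorem dvd_of_gcd {r x y z w : ℕ} (hr : r.Prime) (h5 : 5 ≤ r) (h : Nat.gcd 4 x * y = z * w) (hd : r ∣ z) : r ∣ y := by
  have h1 : r ∣ Nat.gcd 4 x * y := h ▸ Dvd.dvd.mul_right hd _
  rcases hr.dvd_mul.1 h1 with h2 | h2
  · have := Nat.le_of_dvd (by norm_num) (h2.trans (Nat.gcd_dvd_left 4 x))
    omega
  · exact h2

/-- transfer -/
theorem nrel_of {ι : Type} [Fintype ι] [DecidableEq ι] {F : Type*} [Field F] [Finite F]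
    {Q : QuadraticForm F (ι → F)} (hQ : Nondeg Q) {m : ℕ} (hm : 5 ≤ m) (hodd : Odd m)
    (hι : Fintype.card ι = 2 * m) {r : ℕ} (hr : r.Prime)
    (hord : orderOf ((Nat.card F : ℕ) : ZMod r) = 2 * m ∨ orderOf ((Nat.card F : ℕ) : ZMod r) = m)
    (hd : r ∣ Nat.card (Cfsg.POmega F ⇑Q)) : Cfsg.Agent.H721.SR.NRel (Cfsg.POmega F ⇑Q) := by
  have hG : Good Q := good_of_finite hQ (by rw [Module.finrank_fintype_fun_eq_card]; omega)
  have e : Cfsg.POmega F ⇑Q ≃* E Q ⧸ center (E Q) := quotientCenterCongr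
    ((omegaEquiv Q).trans (MulEquiv.subgroupCongr hG.commutator_eq_E))
  obtain ⟨h5, hrF⟩ : 5 ≤ r ∧ (r : F) ≠ 0 := by
    rcases hord with h | h
    · exact prime_facts hr h (by omega)
    · exact prime_facts hr h hm
  refine Cfsg.Agent.H721.SR.NRel.congr e.symm (not_real hQ (by omega) hodd hι hr (by omega) hrF hord ?_)
  rw [Nat.card_congr e.toEquiv] at hd
  exact hd.trans (Subgroup.card_quotient_dvd_card _)

theorem nrel_plus {F : Type*} [Field F] [Finite F] {m : ℕ} (hm : 5 ≤ m) (hodd : Odd m) :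
    Cfsg.Agent.H721.SR.NRel (Cfsg.POmega F (Cfsg.quadFormPlus m F)) := by
  have := Fintype.ofFinite F
  have hq : 1 < Nat.card F := Finite.one_lt_card
  obtain ⟨r, hr, ho⟩ := Cfsg.Agent.Lib.Zsigmondy.exists_prime_orderOf (a := Nat.card F) (n := m) hq (by omega)
    (by omega) (by rintro ⟨-, rfl⟩; exact absurd hodd (by decide))
  rw [← coe_plusForm]
  refine nrel_of (nondeg_plusForm m F) hm hodd (by simp; omega) hr (Or.inr ho) ?_
  rw [coe_plusForm]
  have h1 := S0293.result (F := F) rfl m (by omega)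
  rw [← Nat.card_eq_fintype_card] at h1
  refine dvd_of_gcd hr (prime_facts (F := F) hr ho hm).1 h1 (Dvd.dvd.mul_left ?_ _)
  have hf := Fact.mk hr
  rw [← CharP.cast_eq_zero_iff (ZMod r) r, Nat.cast_sub (Nat.one_le_pow _ _ (by omega)), Nat.cast_one,
      Nat.cast_pow, sub_eq_zero, ← orderOf_dvd_iff_pow_eq_one, ho]

theorem nrel_minus {F : Type*} [Field F] [Finite F] {m : ℕ} (hm : 5 ≤ m) (hodd : Odd m) {a b : F}
    (hab : ∀ z₁ z₂ : F, z₁ ^ 2 + a * z₁ * z₂ + b * z₂ ^ 2 = 0 → z₁ = 0 ∧ z₂ = 0) :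
    Cfsg.Agent.H721.SR.NRel (Cfsg.POmega F (Cfsg.quadFormMinus (m - 1) F a b)) := by
  have := Fintype.ofFinite F
  have hq : 1 < Nat.card F := Finite.one_lt_card
  obtain ⟨r, hr, ho⟩ := Cfsg.Agent.Lib.Zsigmondy.exists_prime_orderOf (a := Nat.card F) (n := 2 * m) hq (by omega)
    (by omega) (by omega)
  rw [← coe_minusForm]
  refine nrel_of (nondeg_minusForm (m - 1) F a b hab) hm hodd (by simp; omega) hr (Or.inl ho) ?_
  rw [coe_minusForm]
  have h1 := S0294.result (F := F) rfl m (by omega) a b hab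
  rw [← Nat.card_eq_fintype_card] at h1
  refine dvd_of_gcd hr (prime_facts (F := F) hr ho (by omega)).1 h1 (Dvd.dvd.mul_left ?_ _)
  have hf := Fact.mk hr
  have h2 : ((Nat.card F : ℕ) : ZMod r) ^ m * ((Nat.card F : ℕ) : ZMod r) ^ m = 1 := by
    rw [← pow_add, ← two_mul, ← ho, pow_orderOf_eq_one]
  have h3 : ((Nat.card F : ℕ) : ZMod r) ^ m ≠ 1 := by
    intro h4
    have := Nat.le_of_dvd (by omega) (orderOf_dvd_of_pow_eq_one h4)
    omega
  rw [← CharP.cast_eq_zero_iff (ZMod r) r, Nat.cast_add, Nat.cast_one, Nat.cast_pow]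
  rcases mul_self_eq_one_iff.1 h2 with h4 | h4
  · exact absurd h4 h3
  · rw [h4]; ring

end Cfsg.Agent.H105.Rl
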